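import Mathlib.Combinatorics.SimpleGraph.Acyclic
import Mathlib.Combinatorics.SimpleGraph.Finite
import Mathlib.Algebra.Module.BigOperators
import Mathlib.Algebra.BigOperators.Pi
import Mathlib.Tactic.Abel

/-!
# Edge labellings with prescribed vertex sums on bipartite graphs
-/

set_option autoImplicit false

universe u v

namespace Groth.Agent.Lib.GraphSums.Bipartite

variable {V : Type u} [Fintype V] [DecidableEq V] (G : SimpleGraph V) [DecidableRel G.Adj]
  {A : Type v} [AddCommGroup A] (c : V → Bool)

/-- The vertex sums of a labelling. -/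
def bd : (Sym2 V → A) →+ (V → A) where
  toFun x v := ∑ e ∈ G.incidenceFinset v, x e
  map_zero' := by ext v; simp
  map_add' x y := by ext v; simp [Finset.sum_add_distrib]

theorem bd_apply (x : Sym2 V → A) (v : V) : bd G x v = ∑ e ∈ G.incidenceFinset v, x e := rfl

/-- The sign of a vertex. -/
def sgn (v : V) : ℤ := if c v then 1 else -1

omit [Fintype V] [DecidableEq V] in
theorem sgn_sq (v : V) : sgn c v * sgn c v = 1 := by unfold sgn; split_ifs <;> rfl

omit [Fintype V] [DecidableEq V] in
theorem sgn_adj {G : SimpleGraph V} (hbip : ∀ v w : V, G.Adj v w → c v ≠ c w) {u w : V} (h : G.Adj u w) :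
    sgn c w = -sgn c u := by
  have := hbip u w h
  unfold sgn
  cases hu : c u <;> cases hw : c w <;> simp_all

theorem bd_single {u w : V} (h : G.Adj u w) (a : A) :
    bd G (Pi.single s(u, w) a) = Pi.single u a + Pi.single w a := by
  funext v
  rw [bd_apply, Finset.sum_pi_single', Pi.add_apply]
  simp only [SimpleGraph.mem_incidenceFinset, SimpleGraph.mk'_mem_incidenceSet_iff, h, true_and]
  rcases eq_or_ne v u with rfl | hu
  · simp [h.ne]
  · rcases eq_or_ne v w with rfl | hw
    · simp [hu]
    · simp [hu, hw]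

variable {G} (hbip : ∀ v w : V, G.Adj v w → c v ≠ c w)

include hbip in
theorem exists_path {H : SimpleGraph V} (hH : H ≤ G) {u v : V} (p : H.Walk u v) :
    ∃ x : Sym2 V → ℤ, (∀ e, e ∉ H.edgeSet → x e = 0) ∧
      bd G x = Pi.single u (sgn c u) - Pi.single v (sgn c v) := by
  induction p with
  | nil => exact ⟨0, fun _ _ => rfl, by rw [map_zero, sub_self]⟩
  | @cons a b d hab q ih =>
    obtain ⟨x, hx, hbd⟩ := ih
    refine ⟨Pi.single s(a, b) (sgn c a) + x, fun e he => ?_, ?_⟩
    · rw [Pi.add_apply, hx e he, add_zero]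
      exact Pi.single_eq_of_ne (M := fun _ : Sym2 V => ℤ) (fun hh => he (by rw [hh]; exact hab)) _
    · rw [map_add, bd_single G (hH hab), hbd, sgn_adj c hbip (hH hab), Pi.single_neg]
      abel

include hbip in
/-- The fundamental cycle of an edge. -/
theorem exists_cycle {H : SimpleGraph V} (hH : H ≤ G) {u w : V} (h : G.Adj u w) (hn : s(u, w) ∉ H.edgeSet)
    (hr : H.Reachable u w) :
    ∃ z : Sym2 V → ℤ, (∀ e, e ∉ H.edgeSet → e ≠ s(u, w) → z e = 0) ∧ z s(u, w) = 1 ∧ bd G z = 0 := by
  obtain ⟨p⟩ := hr
  obtain ⟨x, hx, hbd⟩ := exists_path c hbip hH p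
  refine ⟨Pi.single s(u, w) 1 + (-sgn c u) • x, fun e he hne => ?_, ?_, ?_⟩
  · rw [Pi.add_apply, Pi.smul_apply, hx e he, smul_zero, add_zero, Pi.single_eq_of_ne hne]
  · rw [Pi.add_apply, Pi.smul_apply, hx _ hn, smul_zero, add_zero, Pi.single_eq_same]
  · rw [map_add, bd_single G h, map_zsmul, hbd, sgn_adj c hbip h, Pi.single_neg]
    funext v
    simp only [Pi.add_apply, Pi.smul_apply, Pi.sub_apply, Pi.neg_apply, Pi.zero_apply, smul_eq_mul]
    have h1 := sgn_sq c u
    rcases eq_or_ne v u with rfl | hu
    · simp [h.ne, h1]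
    · rcases eq_or_ne v w with rfl | hw
      · simp [hu, h1]
      · simp [hu, hw]

/-- Turning an integral labelling into a labelling by multiples of `a`. -/
def scale (z : Sym2 V → ℤ) : A →+ (Sym2 V → A) where
  toFun a e := z e • a
  map_zero' := by ext e; simp
  map_add' a b := by ext e; simp [smul_add]

omit [Fintype V] [DecidableEq V] in
theorem scale_apply (z : Sym2 V → ℤ) (a : A) (e : Sym2 V) : scale z a e = z e • a := rfl

theorem bd_scale (z : Sym2 V → ℤ) (a : A) (v : V) : bd G (scale z a) v = bd G z v • a := by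
  rw [bd_apply, bd_apply, Finset.sum_smul]; rfl

include hbip in
/-- Every labelling of the vertices with balanced sums comes from the edges. -/
theorem exists_eq_bd (hconn : G.Connected) (a : V → A) (hsum : ∑ v, sgn c v • a v = 0) :
    ∃ x : Sym2 V → A, bd G x = a := by
  obtain ⟨v0⟩ := hconn.nonempty
  choose x hx hbd using fun v => exists_path c hbip le_rfl (hconn.preconnected v v0).some
  refine ⟨∑ v, scale (x v) (sgn c v • a v), funext fun w => ?_⟩
  rw [map_sum, Finset.sum_apply, Finset.sum_congr rfl fun v _ => (bd_scale (x v) _ w).trans (by rw [hbd v]),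
    Finset.sum_congr rfl (g := fun v => (Pi.single v (sgn c v) : V → ℤ) w • sgn c v • a v -
      (Pi.single v0 (sgn c v0) : V → ℤ) w • sgn c v • a v) fun v _ => by rw [Pi.sub_apply, sub_smul],
    Finset.sum_sub_distrib, ← Finset.smul_sum, hsum, smul_zero, sub_zero,
    Finset.sum_eq_single w (fun v _ hv => by rw [Pi.single_eq_of_ne hv.symm, zero_smul]) (by simp),
    Pi.single_eq_same, smul_smul, sgn_sq, one_smul]

include hbip in
/-- A balanced labelling supported on a forest vanishes. -/
theorem eq_zero_of_forest {T : SimpleGraph V} (hT : T ≤ G) (hac : T.IsAcyclic) (x : Sym2 V → A)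
    (hx : ∀ e, e ∉ T.edgeSet → x e = 0) (hbd : bd G x = 0) : x = 0 := by
  classical
  funext e
  induction e using Sym2.ind with
  | _ u w =>
    by_contra hne
    have hadj : T.Adj u w := not_not.mp fun h => hne (hx _ h)
    have hbr : ¬ (T.deleteEdges {s(u, w)}).Reachable u w :=
      SimpleGraph.isBridge_iff.mp (SimpleGraph.isAcyclic_iff_forall_adj_isBridge.mp hac hadj)
    set U := Finset.univ.filter fun v => (T.deleteEdges {s(u, w)}).Reachable u v with hU
    have h0 : ∑ v ∈ U, sgn c v • bd G x v = 0 := by simp [hbd]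
    simp only [bd_apply, Finset.smul_sum] at h0
    rw [Finset.sum_comm' (t' := Finset.univ) (s' := fun e => U.filter fun v => e ∈ G.incidenceFinset v)
      (fun v e => by simp only [Finset.mem_filter, Finset.mem_univ, and_true])] at h0
    rw [Finset.sum_eq_single s(u, w)] at h0
    · have hUu : U.filter (fun v => s(u, w) ∈ G.incidenceFinset v) = {u} := by
        ext v
        simp only [hU, Finset.mem_filter, Finset.mem_univ, true_and, SimpleGraph.mem_incidenceFinset,
          SimpleGraph.mk'_mem_incidenceSet_iff, Finset.mem_singleton]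
        constructor
        · rintro ⟨h1, -, rfl | rfl⟩
          · rfl
          · exact absurd h1 hbr
        · rintro rfl; exact ⟨SimpleGraph.Reachable.refl _, hT hadj, Or.inl rfl⟩
      rw [hUu, Finset.sum_singleton] at h0
      have h1 := congrArg (sgn c u • ·) h0
      simp only [smul_smul, sgn_sq, one_smul, smul_zero] at h1
      exact hne h1
    · intro e _ hne'
      by_cases he : x e = 0
      · simp [he]
      induction e using Sym2.ind with
      | _ a b =>
        have hab : T.Adj a b := not_not.mp fun h => he (hx _ h)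
        have hiff : a ∈ U ↔ b ∈ U := by
          have hd : (T.deleteEdges {s(u, w)}).Adj a b := by
            rw [SimpleGraph.deleteEdges_adj]; exact ⟨hab, by simpa using hne'⟩
          simp only [hU, Finset.mem_filter, Finset.mem_univ, true_and]
          exact ⟨fun h => h.trans hd.reachable, fun h => h.trans hd.symm.reachable⟩
        by_cases ha : a ∈ U
        · have hf : U.filter (fun v => s(a, b) ∈ G.incidenceFinset v) = {a, b} := by
            ext v
            simp only [Finset.mem_filter, SimpleGraph.mem_incidenceFinset, SimpleGraph.mk'_mem_incidenceSet_iff,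
              Finset.mem_insert, Finset.mem_singleton]
            exact ⟨fun h => h.2.2, fun h => ⟨by rcases h with rfl | rfl; exacts [ha, hiff.mp ha], hT hab, h⟩⟩
          rw [hf, Finset.sum_pair hab.ne, sgn_adj c hbip (hT hab), neg_smul, add_neg_cancel]
        · rw [Finset.filter_eq_empty_iff.mpr fun v hv h => ?_, Finset.sum_empty]
          simp only [SimpleGraph.mem_incidenceFinset, SimpleGraph.mk'_mem_incidenceSet_iff] at h
          rcases h.2 with rfl | rfl
          · exact ha hv
          · exact ha (hiff.mpr hv)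
    · exact fun h => absurd (Finset.mem_univ _) h

include hbip in
/-- The balanced labellings form a group `A ^ n`. -/
theorem exists_param (hconn : G.Connected) (n : ℕ) (hn : G.edgeFinset.card + 1 = Fintype.card V + n) :
    ∃ f : (Fin n → A) →+ (Sym2 V → A), Function.Injective f ∧
      Set.range f = {x : Sym2 V → A | (∀ e : Sym2 V, e ∉ G.edgeSet → x e = 0) ∧
        ∀ v : V, ∑ e ∈ G.incidenceFinset v, x e = 0} := by
  classical
  obtain ⟨T, hTG, hT⟩ := hconn.exists_isTree_le
  set N := G.edgeFinset \ T.edgeFinset with hN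
  have hNc : N.card = n := by
    have h1 := hT.card_edgeFinset
    have h2 := Finset.card_sdiff_of_subset (SimpleGraph.edgeFinset_mono hTG)
    have h3 := Finset.card_le_card (SimpleGraph.edgeFinset_mono hTG)
    rw [hN]; omega
  let eN : Fin n ≃ {e // e ∈ N} := ((N.equivFin).trans (finCongr hNc)).symm
  have hmem : ∀ i, (eN i).1 ∈ G.edgeSet ∧ (eN i).1 ∉ T.edgeSet := fun i => by
    have := (eN i).2
    simp only [hN, Finset.mem_sdiff, SimpleGraph.mem_edgeFinset] at this
    exact this
  have hcyc : ∀ e : Sym2 V, e ∈ G.edgeSet → e ∉ T.edgeSet →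
      ∃ z : Sym2 V → ℤ, (∀ d, d ∉ T.edgeSet → d ≠ e → z d = 0) ∧ z e = 1 ∧ bd G z = 0 := by
    intro e
    induction e using Sym2.ind with
    | _ u w => exact fun he hnT => exists_cycle c hbip hTG he hnT (hT.connected.preconnected u w)
  choose z hz1 hz2 hz3 using fun i => hcyc _ (hmem i).1 (hmem i).2
  let f : (Fin n → A) →+ (Sym2 V → A) := ∑ i, (scale (z i)).comp (Pi.evalAddMonoidHom (fun _ : Fin n => A) i)
  have hf : ∀ a d, f a d = ∑ i, z i d • a i := fun a d => by simp [f, scale_apply]
  have hfN : ∀ a j, f a (eN j).1 = a j := fun a j => by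
    rw [hf, Finset.sum_eq_single j (fun i _ hij => by
      rw [hz1 i _ (hmem j).2 (fun h => hij (eN.injective (Subtype.ext h)).symm), zero_smul]) (by simp), hz2, one_smul]
  have hout : ∀ a d, d ∉ G.edgeSet → f a d = 0 := fun a d hd => by
    rw [hf]
    exact Finset.sum_eq_zero fun i _ => by
      rw [hz1 i d (fun h => hd (SimpleGraph.edgeSet_mono hTG h)) (fun h => hd (h ▸ (hmem i).1)), zero_smul]
  have hfbd : ∀ a, bd G (f a) = 0 := fun a => by
    funext v
    simp [f, bd_scale, hz3, Finset.sum_apply]
  refine ⟨f, fun a b h => funext fun j => by rw [← hfN a j, ← hfN b j, h], Set.ext fun x => ⟨?_, ?_⟩⟩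
  · rintro ⟨a, rfl⟩
    exact ⟨hout a, fun v => congrFun (hfbd a) v⟩
  · rintro ⟨hx, hxbd⟩
    refine ⟨fun j => x (eN j).1, (sub_eq_zero.mp ?_).symm⟩
    refine eq_zero_of_forest c hbip hTG hT.isAcyclic _ (fun d hd => ?_) ?_
    · rw [Pi.sub_apply]
      by_cases hg : d ∈ G.edgeSet
      · have hdN : d ∈ N := by simp [hN, hg, hd]
        obtain ⟨j, hj⟩ := eN.surjective ⟨d, hdN⟩
        rw [show d = (eN j).1 from (congrArg Subtype.val hj).symm, hfN, sub_self]
      · rw [hx d hg, hout _ d hg, sub_self]
    · rw [map_sub, hfbd, sub_zero]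
      exact funext hxbd

end Groth.Agent.Lib.GraphSums.Bipartite
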